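/-
Orbit certificates for subgroups of M24 (given by generator tables) acting on masks of codewords.
Built on the bitmask model of Cfsg.Agent.Lib.Helper28.
-/
import Cfsg.Agent.Lib.Helper28.GolayOrder

set_option autoImplicit false

namespace Cfsg.Agent.Lib.Helper10

open Cfsg Cfsg.Agent.Lib.Helper28
open scoped Pointwise

/-! ### fast image of a mask under a table -/

/-- raw image of a mask under a table; `i` is the index of the first entry of the table -/
noncomputable def pmF (L : List ℕ) : ℕ → ℕ → ℕ :=
  List.rec (fun _ _ => 0)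
    (fun a _ ih i m => Nat.lor (Nat.shiftLeft (Nat.land (Nat.shiftRight m i) 1) a) (ih (Nat.succ i) m)) L

theorem pmF_nil (i m : ℕ) : pmF [] i m = 0 := rfl

theorem pmF_cons (a : ℕ) (L : List ℕ) (i m : ℕ) :
    pmF (a :: L) i m = (((m >>> i) &&& 1) <<< a) ||| pmF L (i + 1) m := rfl

theorem pmF_eq (L : List ℕ) (i m : ℕ) : pmF L i m = permMask L (m >>> i) := by
  induction L generalizing i with
  | nil => rfl
  | cons a L ih =>
    rw [pmF_cons, permMask, ih, ← Nat.shiftRight_add]
    congr 1
    rw [Nat.testBit_zero, Nat.and_one_is_mod, Nat.shiftLeft_eq]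
    rcases Nat.mod_two_eq_zero_or_one (m >>> i) with h | h <;> simp [h]

theorem pmF_zero_eq (L : List ℕ) (m : ℕ) : pmF L 0 m = permMask L m := by
  rw [pmF_eq]; rfl

theorem pm_permOf' {L : List ℕ} (h : validTbl L = true) (m : ℕ) : pm (permOf L) m = pmF L 0 m := by
  rw [pm_permOf h, pmF_zero_eq]

/-- evaluate the natural number argument first (call by value for the kernel) -/
noncomputable def strict {β : Type} (x : ℕ) (f : ℕ → β) : β := Nat.rec (f 0) (fun n _ => f (Nat.succ n)) x

theorem strict_eq {β : Type} (x : ℕ) (f : ℕ → β) : strict x f = f x := by cases x <;> rfl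

/-- entry `k` of a packed array with entries of `w` bits (`msk = 2 ^ w - 1`) -/
def fld (data w msk k : ℕ) : ℕ := Nat.land (Nat.shiftRight data (Nat.mul w k)) msk

/-- entry `k` of a packed array of masks -/
def mk24 (data k : ℕ) : ℕ := fld data 24 16777215 k

theorem mk24_lt (data k : ℕ) : mk24 data k < 2 ^ 24 := by
  have : mk24 data k ≤ 16777215 := Nat.and_le_right
  omega

/-! ### subgroups of M24 fixing a list of masks -/

/-- the elements of M24 fixing (setwise) each of the sets `unmask m`, `m ∈ ms` -/
def stabK (ms : List ℕ) : Subgroup (Equiv.Perm GolayPt) where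
  carrier := {g | g ∈ M24 ∧ ∀ m ∈ ms, g • unmask m = unmask m}
  mul_mem' := by
    rintro a b ⟨ha, ha'⟩ ⟨hb, hb'⟩
    exact ⟨M24.mul_mem ha hb, fun m hm => by rw [mul_smul, hb' m hm, ha' m hm]⟩
  one_mem' := ⟨M24.one_mem, fun _ _ => one_smul _ _⟩
  inv_mem' := by
    rintro a ⟨ha, ha'⟩
    exact ⟨M24.inv_mem ha, fun m hm => by rw [inv_smul_eq_iff, ha' m hm]⟩

theorem mem_stabK {ms : List ℕ} {g : Equiv.Perm GolayPt} :
    g ∈ stabK ms ↔ g ∈ M24 ∧ ∀ m ∈ ms, g • unmask m = unmask m := Iff.rfl

theorem smul_unmask (g : Equiv.Perm GolayPt) {m : ℕ} (hm : m < 2 ^ 24) : g • unmask m = unmask (pm g m) := by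
  apply mask_injective
  rw [mask_smul, mask_unmask m hm, mask_unmask _ (pm_lt g m)]

/-- test for a table to lie in `stabK ms` -/
noncomputable def inK (ms : List ℕ) (L : List ℕ) : Bool :=
  inM24 L && ms.all (fun m => Nat.beq (pmF L 0 m) m && Nat.blt m 16777216)

theorem inK_spec {ms L : List ℕ} (h : inK ms L = true) : validTbl L = true ∧ permOf L ∈ stabK ms := by
  simp only [inK, Bool.and_eq_true, List.all_eq_true] at h
  obtain ⟨h1, h2⟩ := h
  have hv : validTbl L = true := by
    simp only [inM24, Bool.and_eq_true] at h1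
    exact h1.1
  refine ⟨hv, permOf_mem_M24 h1, ?_⟩
  intro m hm
  obtain ⟨h3, h4⟩ := h2 m hm
  have h5 : m < 2 ^ 24 := by
    have := Nat.blt_eq.mp h4
    omega
  rw [smul_unmask _ h5, pm_permOf' hv, Nat.eq_of_beq_eq_true h3]

/-! ### forest certificates -/

/-- the check for entry `k`: either a root (its own parent) equal to the representative of its class,
or the image under a generator of an earlier entry of the same class -/
noncomputable def orbStep (gens : List (List ℕ)) (cls rep : ℕ → ℕ) (masks pg : ℕ) (k : ℕ) : Bool :=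
  strict (fld pg 16 65535 k) fun e =>
  strict (Nat.shiftRight e 4) fun p =>
  strict (mk24 masks k) fun mk =>
    cond (Nat.beq p k) (Nat.beq mk (rep (cls mk)))
      (strict (mk24 masks p) fun mp =>
        and (Nat.blt p k) (and (Nat.blt (Nat.land e 15) gens.length)
          (and (Nat.beq (pmF (gens.getD (Nat.land e 15) []) 0 mp) mk) (Nat.beq (cls mk) (cls mp)))))

/-- the check for the entries `0, …, n - 1` -/
noncomputable def orbCheck (gens : List (List ℕ)) (cls rep : ℕ → ℕ) (masks pg n : ℕ) : Bool :=
  allBelow (orbStep gens cls rep masks pg) n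

theorem orbCheck_spec {K : Subgroup (Equiv.Perm GolayPt)} {gens : List (List ℕ)}
    (hg : ∀ L ∈ gens, validTbl L = true ∧ permOf L ∈ K) {cls rep : ℕ → ℕ} {masks pg n : ℕ}
    (h : orbCheck gens cls rep masks pg n = true) :
    ∀ k, k < n → ∃ g ∈ K, pm g (rep (cls (mk24 masks k))) = mk24 masks k := by
  intro k
  induction k using Nat.strong_induction_on with
  | _ k ih =>
    intro hk
    have h1 := allBelow_spec h k hk
    simp only [orbStep, strict_eq] at h1
    cases hpk : Nat.beq (Nat.shiftRight (fld pg 16 65535 k) 4) k with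
    | true =>
      rw [hpk] at h1
      have h2 : mk24 masks k = rep (cls (mk24 masks k)) := Nat.eq_of_beq_eq_true h1
      refine ⟨1, K.one_mem, ?_⟩
      rw [← h2]
      exact pm_one _ (mk24_lt _ _)
    | false =>
      rw [hpk] at h1
      simp only [cond_false, Bool.and_eq_true] at h1
      obtain ⟨h2, h3, h4, h5⟩ := h1
      have h2' := Nat.blt_eq.mp h2
      have h3' := Nat.blt_eq.mp h3
      have h4' := Nat.eq_of_beq_eq_true h4
      have h5' := Nat.eq_of_beq_eq_true h5
      obtain ⟨g, hgK, hgm⟩ := ih _ h2' (lt_trans h2' hk)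
      rw [List.getD_eq_getElem _ _ h3'] at h4'
      obtain ⟨hv, hL⟩ := hg _ (List.getElem_mem h3')
      refine ⟨permOf _ * g, K.mul_mem hL hgK, ?_⟩
      rw [pm_mul, h5', hgm, pm_permOf' hv, h4']

/-- coverage check: every codeword mask `m` with `P m` occurs in the array, at the position given by the
index table `pos` (indexed by the information bits of `m`) -/
noncomputable def covF (P : ℕ → Bool) (masks pos n : ℕ) (m : ℕ) : Bool :=
  cond (P m) (strict (fld pos 12 4095 (Nat.shiftRight m 12)) fun k =>
    and (Nat.blt k n) (Nat.beq (mk24 masks k) m)) true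

noncomputable def covCheck (P : ℕ → Bool) (masks pos n : ℕ) : Bool :=
  allBelow (fun j => strict (encF j) (covF P masks pos n)) 4096

theorem covCheck_spec {P : ℕ → Bool} {masks pos n : ℕ} (h : covCheck P masks pos n = true) {m : ℕ}
    (hm : m < 2 ^ 24) (hc : isCode m = true) (hP : P m = true) : ∃ k, k < n ∧ mk24 masks k = m := by
  have h' : allBelow (fun j => covF P masks pos n (encF j)) 4096 = true := by
    simpa only [covCheck, strict_eq] using h
  have h1 := forall_code_of_check (f := covF P masks pos n) h' hm hc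
  simp only [covF, hP, cond_true, strict_eq, Bool.and_eq_true] at h1
  exact ⟨_, Nat.blt_eq.mp h1.1, Nat.eq_of_beq_eq_true h1.2⟩

/-- Orbits classified by the class function: two codewords (as sets) with property `P` and the same class are
conjugate under `K`. -/
theorem orbits_by_class {K : Subgroup (Equiv.Perm GolayPt)} {gens : List (List ℕ)}
    (hg : ∀ L ∈ gens, validTbl L = true ∧ permOf L ∈ K) {P : ℕ → Bool} {cls rep : ℕ → ℕ} {masks pg pos n : ℕ}
    (h1 : orbCheck gens cls rep masks pg n = true) (h2 : covCheck P masks pos n = true)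
    {s t : Finset GolayPt} (hs : isCode (mask s) = true) (ht : isCode (mask t) = true)
    (hPs : P (mask s) = true) (hPt : P (mask t) = true) (hst : cls (mask s) = cls (mask t)) :
    ∃ g ∈ K, g • s = t := by
  obtain ⟨k, hk, hks⟩ := covCheck_spec h2 (mask_lt s) hs hPs
  obtain ⟨l, hl, hlt⟩ := covCheck_spec h2 (mask_lt t) ht hPt
  obtain ⟨a, ha, ha'⟩ := orbCheck_spec hg h1 k hk
  obtain ⟨b, hb, hb'⟩ := orbCheck_spec hg h1 l hl
  rw [hks] at ha'
  rw [hlt, ← hst] at hb'
  refine ⟨b * a⁻¹, K.mul_mem hb (K.inv_mem ha), ?_⟩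
  apply mask_injective
  rw [mask_smul, ← ha', ← pm_mul, inv_mul_cancel_right, hb']

end Cfsg.Agent.Lib.Helper10
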