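/-
Counting codewords, transport along group elements, normal forms of small configurations under M24.
-/
import Cfsg.Agent.Lib.Helper10.Orbit

set_option autoImplicit false

namespace Cfsg.Agent.Lib.Helper10

open Cfsg Cfsg.Agent.Lib.Helper28
open scoped Pointwise

/-! ### counting -/

/-- number of `k < n` with `f k`, added to `acc` (tail recursive, call by value) -/
noncomputable def countAcc (f : ℕ → Bool) (n : ℕ) : ℕ → ℕ :=
  Nat.rec (fun acc => acc) (fun k ih acc => strict (cond (f k) (Nat.succ acc) acc) ih) n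

theorem countAcc_eq (f : ℕ → Bool) (n acc : ℕ) :
    countAcc f n acc = acc + ((Finset.range n).filter (fun k => f k = true)).card := by
  induction n generalizing acc with
  | zero => simp [countAcc]
  | succ n ih =>
    have : countAcc f (n + 1) acc = countAcc f n (cond (f n) (Nat.succ acc) acc) := by
      show strict _ _ = _
      rw [strict_eq]
      rfl
    rw [this, ih, Finset.range_add_one, Finset.filter_insert]
    cases hf : f n with
    | true =>
      rw [if_pos rfl, Finset.card_insert_of_notMem (by simp)]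
      simp only [cond_true]
      omega
    | false =>
      rw [if_neg (by simp)]
      simp

theorem enc_shift : ∀ j, j < 4096 → enc j >>> 12 = j := by
  intro j hj
  have := allBelow_spec (f := fun j => Nat.beq (Nat.shiftRight (encF j) 12) j) (n := 4096) (by decide +kernel) j hj
  rw [encF_eq j hj] at this
  exact Nat.eq_of_beq_eq_true this

/-- counting codewords (as sets) with a property of their masks -/
theorem ncard_code_eq (f : ℕ → Bool) :
    {s : Finset GolayPt | isCode (mask s) = true ∧ f (mask s) = true}.ncard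
      = countAcc (fun j => f (encF j)) 4096 0 := by
  rw [countAcc_eq, zero_add]
  have himg : {s : Finset GolayPt | isCode (mask s) = true ∧ f (mask s) = true}
      = (fun j => unmask (enc j)) '' (((Finset.range 4096).filter (fun k => f (encF k) = true) : Finset ℕ) : Set ℕ) := by
    ext s
    simp only [Set.mem_ofPred_eq, Set.mem_image, Finset.coe_filter, Finset.mem_range]
    constructor
    · rintro ⟨hc, hf⟩
      obtain ⟨j, hj, hjs⟩ := exists_enc_of_isCode (mask_lt s) hc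
      refine ⟨j, ⟨hj, ?_⟩, ?_⟩
      · rw [encF_eq j hj, hjs]; exact hf
      · rw [hjs, unmask_mask]
    · rintro ⟨j, ⟨hj, hf⟩, rfl⟩
      rw [mask_unmask _ (enc_lt j hj)]
      refine ⟨isCode_enc j hj, ?_⟩
      rwa [encF_eq j hj] at hf
  rw [himg, Set.InjOn.ncard_image, Set.ncard_coe_finset]
  intro j hj k hk hjk
  simp only [Finset.coe_filter, Finset.mem_range, Set.mem_ofPred_eq] at hj hk
  have h1 : enc j = enc k := by
    have := congrArg mask hjk
    simpa only [mask_unmask _ (enc_lt j hj.1), mask_unmask _ (enc_lt k hk.1)] using this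
  rw [← enc_shift j hj.1, ← enc_shift k hk.1, h1]

/-! ### transport -/

theorem ncard_transport {α : Type*} (g : Equiv.Perm GolayPt) [MulAction (Equiv.Perm GolayPt) α] (A B : Set α)
    (h : ∀ x, x ∈ A ↔ g • x ∈ B) : A.ncard = B.ncard := by
  have : B = (fun x => g • x) '' A := by
    ext x
    constructor
    · intro hx
      exact ⟨g⁻¹ • x, (h _).2 (by rwa [smul_inv_smul]), smul_inv_smul g x⟩
    · rintro ⟨y, hy, rfl⟩
      exact (h y).1 hy
  rw [this, Set.ncard_image_of_injective _ (MulAction.injective g)]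

theorem card_smul_inter (g : Equiv.Perm GolayPt) (s t : Finset GolayPt) :
    ((g • s) ∩ (g • t)).card = (s ∩ t).card := by
  rw [← Finset.smul_finset_inter, Finset.card_smul_finset]

theorem apply_mem_smul_iff (g : Equiv.Perm GolayPt) (s : Finset GolayPt) (p : GolayPt) :
    g p ∈ g • s ↔ p ∈ s := by
  rw [← Equiv.Perm.smul_def, Finset.smul_mem_smul_finset_iff]

theorem smul_mem_octads_iff {g : Equiv.Perm GolayPt} (hg : g ∈ M24) (o : Finset GolayPt) :
    g • o ∈ octads ↔ o ∈ octads := by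
  refine ⟨fun h => ?_, smul_mem_octads hg⟩
  have := smul_mem_octads (M24.inv_mem hg) h
  rwa [inv_smul_smul] at this

theorem smul_mem_dodecads_iff {g : Equiv.Perm GolayPt} (hg : g ∈ M24) (o : Finset GolayPt) :
    g • o ∈ dodecads ↔ o ∈ dodecads := by
  refine ⟨fun h => ?_, smul_mem_dodecads hg⟩
  have := smul_mem_dodecads (M24.inv_mem hg) h
  rwa [inv_smul_smul] at this

/-! ### points as masks -/

theorem unmask_two_pow {i : ℕ} (hi : i < 24) : unmask (2 ^ i) = {pt i} := by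
  ext p
  rw [mem_unmask, Nat.testBit_two_pow, Finset.mem_singleton, decide_eq_true_eq]
  constructor
  · intro h; rw [h, pt_idx]
  · intro h; rw [h, idx_pt i hi]

theorem smul_unmask_two_pow_iff (g : Equiv.Perm GolayPt) {i : ℕ} (hi : i < 24) :
    g • unmask (2 ^ i) = unmask (2 ^ i) ↔ g (pt i) = pt i := by
  rw [unmask_two_pow hi, Finset.smul_finset_singleton, Finset.singleton_inj, Equiv.Perm.smul_def]

theorem testBit_mask_pt (s : Finset GolayPt) {i : ℕ} (hi : i < 24) :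
    (mask s).testBit i = decide (pt i ∈ s) := by
  rw [testBit_mask]; simp [hi]

/-! ### five points -/

theorem inj5 {α : Type*} {a b c d e : α} (h : [a, b, c, d, e].Nodup) : Function.Injective ![a, b, c, d, e] := by
  simp only [List.nodup_cons, List.mem_cons, List.not_mem_nil, or_false, not_or, List.nodup_nil, and_true,
    not_false_eq_true] at h
  obtain ⟨⟨h1, h2, h3, h4⟩, ⟨h5, h6, h7⟩, ⟨h8, h9⟩, h10⟩ := h
  intro i j hij
  fin_cases i <;> fin_cases j <;> simp_all [eq_comm]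

theorem five_to_std {a b c d e : GolayPt} (h : [a, b, c, d, e].Nodup) :
    ∃ g ∈ M24, g a = pt 23 ∧ g b = pt 0 ∧ g c = pt 1 ∧ g d = pt 2 ∧ g e = pt 3 := by
  obtain ⟨g, hg, h0, h1, h2, h3, h4⟩ := M24_base_to ![a, b, c, d, e] (inj5 h)
  refine ⟨g⁻¹, M24.inv_mem hg, ?_, ?_, ?_, ?_, ?_⟩ <;> rw [Equiv.Perm.inv_eq_iff_eq]
  · exact h0.symm
  · exact h1.symm
  · exact h2.symm
  · exact h3.symm
  · exact h4.symm

theorem smul_eq_stdOctad {g : Equiv.Perm GolayPt} (hg : g ∈ M24) {o : Finset GolayPt} (ho : o ∈ octads)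
    {a b c d e : GolayPt} (ha : a ∈ o) (hb : b ∈ o) (hc : c ∈ o) (hd : d ∈ o) (he : e ∈ o)
    (h0 : g a = pt 23) (h1 : g b = pt 0) (h2 : g c = pt 1) (h3 : g d = pt 2) (h4 : g e = pt 3) :
    g • o = stdOctad := by
  apply octad_eq_of_inter (smul_mem_octads hg ho) stdOctad_mem
  have hsub : ({pt 23, pt 0, pt 1, pt 2, pt 3} : Finset GolayPt) ⊆ g • o ∩ stdOctad := by
    intro x hx
    simp only [Finset.mem_insert, Finset.mem_singleton] at hx
    rw [Finset.mem_inter]
    rcases hx with rfl | rfl | rfl | rfl | rfl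
    · exact ⟨h0 ▸ (apply_mem_smul_iff g o a).2 ha, by decide⟩
    · exact ⟨h1 ▸ (apply_mem_smul_iff g o b).2 hb, by decide⟩
    · exact ⟨h2 ▸ (apply_mem_smul_iff g o c).2 hc, by decide⟩
    · exact ⟨h3 ▸ (apply_mem_smul_iff g o d).2 hd, by decide⟩
    · exact ⟨h4 ▸ (apply_mem_smul_iff g o e).2 he, by decide⟩
  calc 5 = ({pt 23, pt 0, pt 1, pt 2, pt 3} : Finset GolayPt).card := by decide
    _ ≤ _ := Finset.card_le_card hsub

/-- extend a short list of distinct points of a set with at least five elements to five distinct points -/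
theorem exists_extend {α : Type*} [DecidableEq α] (o : Finset α) (n : ℕ) (l0 : List α) (hn : n + l0.length ≤ o.card) :
    ∃ l1 : List α, l1.length = n ∧ l1.Nodup ∧ (∀ x ∈ l1, x ∈ o ∧ x ∉ l0) := by
  have hcard : n ≤ (o \ l0.toFinset).card := by
    have h1 := Finset.le_card_sdiff l0.toFinset o
    have h2 := List.toFinset_card_le l0
    omega
  refine ⟨(o \ l0.toFinset).toList.take n, ?_, ?_, ?_⟩
  · rw [List.length_take, Finset.length_toList]; omega
  · exact (Finset.nodup_toList _).sublist (List.take_sublist _ _)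
  · intro x hx
    have := List.mem_of_mem_take hx
    rw [Finset.mem_toList, Finset.mem_sdiff, List.mem_toFinset] at this
    exact this

/-! ### normal forms of (octad, points) configurations -/

theorem octad_card {o : Finset GolayPt} (ho : o ∈ octads) : o.card = 8 := ((mem_octads_iff o).1 ho).2

theorem octad_std2 {o : Finset GolayPt} (ho : o ∈ octads) {p q : GolayPt} (hp : p ∈ o) (hq : q ∈ o)
    (hpq : p ≠ q) : ∃ h ∈ M24, h • o = stdOctad ∧ h p = pt 23 ∧ h q = pt 0 := by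
  obtain ⟨l1, hlen, hnd, hmem⟩ := exists_extend o 3 [p, q] (by rw [octad_card ho]; simp)
  rcases l1 with _ | ⟨a, _ | ⟨b, _ | ⟨c, _ | ⟨d, l⟩⟩⟩⟩ <;> simp at hlen
  have ha := hmem a (by simp)
  have hb := hmem b (by simp)
  have hc := hmem c (by simp)
  have hnd5 : [p, q, a, b, c].Nodup := by
    simp only [List.mem_cons, List.not_mem_nil, or_false, not_or] at ha hb hc
    simp only [List.nodup_cons, List.mem_cons, List.not_mem_nil, or_false, not_or, List.nodup_nil, and_true,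
      not_false_eq_true] at hnd ⊢
    refine ⟨⟨hpq, Ne.symm ha.2.1, Ne.symm hb.2.1, Ne.symm hc.2.1⟩, ⟨Ne.symm ha.2.2, Ne.symm hb.2.2, Ne.symm hc.2.2⟩,
      hnd.1, hnd.2⟩
  obtain ⟨g, hg, h0, h1, h2, h3, h4⟩ := five_to_std hnd5
  exact ⟨g, hg, smul_eq_stdOctad hg ho hp hq ha.1 hb.1 hc.1 h0 h1 h2 h3 h4, h0, h1⟩

theorem octad_std1 {o : Finset GolayPt} (ho : o ∈ octads) {p : GolayPt} (hp : p ∈ o) :
    ∃ h ∈ M24, h • o = stdOctad ∧ h p = pt 23 := by
  have : (o.erase p).Nonempty := by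
    rw [← Finset.card_pos, Finset.card_erase_of_mem hp, octad_card ho]; norm_num
  obtain ⟨q, hq⟩ := this
  obtain ⟨h, hh, h1, h2, _⟩ := octad_std2 ho hp (Finset.mem_of_mem_erase hq) (Finset.ne_of_mem_erase hq).symm
  exact ⟨h, hh, h1, h2⟩

theorem octad_std0 {o : Finset GolayPt} (ho : o ∈ octads) : ∃ h ∈ M24, h • o = stdOctad := by
  have : o.Nonempty := by
    rw [← Finset.card_pos, octad_card ho]; norm_num
  obtain ⟨p, hp⟩ := this
  obtain ⟨h, hh, h1, _⟩ := octad_std1 ho hp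
  exact ⟨h, hh, h1⟩

theorem std_out {y : GolayPt} (hy : y ∉ stdOctad) :
    ∃ u ∈ M24, (∀ f ∈ [23, 0, 1, 2, 3, 5], u (pt f) = pt f) ∧ u (pt 4) = y ∧ u • stdOctad = stdOctad := by
  have hy' : idx y ∈ (List.range 24).filter (fun y => !([0, 1, 2, 3, 5, 14, 17, 23].contains y)) := by
    revert y; decide
  obtain ⟨u, hu, hu1, hu2⟩ := checkLevel_spec level7 (by norm_num) (by simp) y hy'
  refine ⟨u, hu, hu1, hu2, fixG5_smul_stdOctad ⟨hu, ?_⟩⟩
  intro f hf
  apply hu1
  simp only [List.mem_cons, List.not_mem_nil, or_false] at hf ⊢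
  tauto

theorem std_in {y : GolayPt} (hy : y ∈ stdOctad) (h23 : y ≠ pt 23) (h0 : y ≠ pt 0) (h1 : y ≠ pt 1) (h2 : y ≠ pt 2)
    (h3 : y ≠ pt 3) : ∃ u ∈ M24, (∀ f ∈ [23, 0, 1, 2, 3], u (pt f) = pt f) ∧ u (pt 5) = y := by
  have hy' : idx y ∈ [5, 14, 17] := by
    revert y; decide
  exact checkLevel_spec level6 (by norm_num) (by simp) y hy'

theorem octad_std1' {o : Finset GolayPt} (ho : o ∈ octads) {q : GolayPt} (hq : q ∉ o) :
    ∃ h ∈ M24, h • o = stdOctad ∧ h q = pt 4 := by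
  obtain ⟨h, hh, h1⟩ := octad_std0 ho
  have hy : h q ∉ stdOctad := by rw [← h1, apply_mem_smul_iff]; exact hq
  obtain ⟨u, hu, _, hu2, hu3⟩ := std_out hy
  refine ⟨u⁻¹ * h, M24.mul_mem (M24.inv_mem hu) hh, ?_, ?_⟩
  · rw [mul_smul, h1, inv_smul_eq_iff, hu3]
  · rw [Equiv.Perm.mul_apply, Equiv.Perm.inv_eq_iff_eq, hu2]

theorem octad_std2' {o : Finset GolayPt} (ho : o ∈ octads) {p q : GolayPt} (hp : p ∈ o) (hq : q ∉ o) :
    ∃ h ∈ M24, h • o = stdOctad ∧ h p = pt 23 ∧ h q = pt 4 := by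
  obtain ⟨h, hh, h1, h2⟩ := octad_std1 ho hp
  have hy : h q ∉ stdOctad := by rw [← h1, apply_mem_smul_iff]; exact hq
  obtain ⟨u, hu, hu1, hu2, hu3⟩ := std_out hy
  refine ⟨u⁻¹ * h, M24.mul_mem (M24.inv_mem hu) hh, ?_, ?_, ?_⟩
  · rw [mul_smul, h1, inv_smul_eq_iff, hu3]
  · rw [Equiv.Perm.mul_apply, Equiv.Perm.inv_eq_iff_eq, h2, hu1 23 (by simp)]
  · rw [Equiv.Perm.mul_apply, Equiv.Perm.inv_eq_iff_eq, hu2]

/-- the octad through five points -/
theorem exists_octad_of_five {a b c d e : GolayPt} (h : [a, b, c, d, e].Nodup) :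
    ∃ o ∈ octads, a ∈ o ∧ b ∈ o ∧ c ∈ o ∧ d ∈ o ∧ e ∈ o := by
  obtain ⟨g, hg, h0, h1, h2, h3, h4⟩ := five_to_std h
  refine ⟨g⁻¹ • stdOctad, smul_mem_octads (M24.inv_mem hg) stdOctad_mem, ?_, ?_, ?_, ?_, ?_⟩ <;>
    rw [← apply_mem_smul_iff g, smul_inv_smul]
  · rw [h0]; decide
  · rw [h1]; decide
  · rw [h2]; decide
  · rw [h3]; decide
  · rw [h4]; decide

/-- Normal form of six distinct points under M24: there are two orbits, according as the six points lie in an
octad or not. -/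
theorem six_normal {a b c d e f : GolayPt} (h : [a, b, c, d, e, f].Nodup) :
    ∃ g ∈ M24, g a = pt 23 ∧ g b = pt 0 ∧ g c = pt 1 ∧ g d = pt 2 ∧ g e = pt 3 ∧
      ((g f = pt 5 ∧ ∃ o ∈ octads, a ∈ o ∧ b ∈ o ∧ c ∈ o ∧ d ∈ o ∧ e ∈ o ∧ f ∈ o) ∨
       (g f = pt 4 ∧ ¬ ∃ o ∈ octads, a ∈ o ∧ b ∈ o ∧ c ∈ o ∧ d ∈ o ∧ e ∈ o ∧ f ∈ o)) := by
  have h5 : [a, b, c, d, e].Nodup := by
    have : [a, b, c, d, e].Sublist [a, b, c, d, e, f] := by simp
    exact h.sublist this
  have hf : f ≠ a ∧ f ≠ b ∧ f ≠ c ∧ f ≠ d ∧ f ≠ e := by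
    simp only [List.nodup_cons, List.mem_cons, List.not_mem_nil, or_false, not_or] at h
    exact ⟨Ne.symm h.1.2.2.2.2, Ne.symm h.2.1.2.2.2, Ne.symm h.2.2.1.2.2, Ne.symm h.2.2.2.1.2, Ne.symm h.2.2.2.2.1⟩
  obtain ⟨g, hg, h0, h1, h2, h3, h4⟩ := five_to_std h5
  have key : (∃ o ∈ octads, a ∈ o ∧ b ∈ o ∧ c ∈ o ∧ d ∈ o ∧ e ∈ o ∧ f ∈ o) ↔ g f ∈ stdOctad := by
    constructor
    · rintro ⟨o, ho, ha, hb, hc, hd, he, hfo⟩
      rw [← smul_eq_stdOctad hg ho ha hb hc hd he h0 h1 h2 h3 h4, apply_mem_smul_iff]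
      exact hfo
    · intro hfo
      refine ⟨g⁻¹ • stdOctad, smul_mem_octads (M24.inv_mem hg) stdOctad_mem, ?_, ?_, ?_, ?_, ?_, ?_⟩ <;>
        rw [← apply_mem_smul_iff g, smul_inv_smul]
      · rw [h0]; decide
      · rw [h1]; decide
      · rw [h2]; decide
      · rw [h3]; decide
      · rw [h4]; decide
      · exact hfo
  by_cases hin : g f ∈ stdOctad
  · obtain ⟨u, hu, hu1, hu2⟩ := std_in hin (fun e => hf.1 (g.injective (e.trans h0.symm)))
      (fun e => hf.2.1 (g.injective (e.trans h1.symm))) (fun e => hf.2.2.1 (g.injective (e.trans h2.symm)))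
      (fun e => hf.2.2.2.1 (g.injective (e.trans h3.symm))) (fun e => hf.2.2.2.2 (g.injective (e.trans h4.symm)))
    refine ⟨u⁻¹ * g, M24.mul_mem (M24.inv_mem hu) hg, ?_, ?_, ?_, ?_, ?_, Or.inl ⟨?_, key.2 hin⟩⟩ <;>
      rw [Equiv.Perm.mul_apply, Equiv.Perm.inv_eq_iff_eq]
    · rw [h0, hu1 23 (by simp)]
    · rw [h1, hu1 0 (by simp)]
    · rw [h2, hu1 1 (by simp)]
    · rw [h3, hu1 2 (by simp)]
    · rw [h4, hu1 3 (by simp)]
    · rw [hu2]
  · obtain ⟨u, hu, hu1, hu2, _⟩ := std_out hin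
    refine ⟨u⁻¹ * g, M24.mul_mem (M24.inv_mem hu) hg, ?_, ?_, ?_, ?_, ?_, Or.inr ⟨?_, fun hc => hin (key.1 hc)⟩⟩ <;>
      rw [Equiv.Perm.mul_apply, Equiv.Perm.inv_eq_iff_eq]
    · rw [h0, hu1 23 (by simp)]
    · rw [h1, hu1 0 (by simp)]
    · rw [h2, hu1 1 (by simp)]
    · rw [h3, hu1 2 (by simp)]
    · rw [h4, hu1 3 (by simp)]
    · rw [hu2]

/-! ### fast forms -/

theorem card_eq_pcF (s : Finset GolayPt) : s.card = pcF (mask s) := by
  rw [pcF_eq (mask_lt s), card_eq_pc]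

theorem card_inter_eq_pcF (s t : Finset GolayPt) : (s ∩ t).card = pcF (Nat.land (mask s) (mask t)) := by
  rw [card_eq_pcF, mask_inter]; rfl

theorem mask_stdOctad : mask stdOctad = 8536111 := mask_unmask _ (by norm_num)

theorem mem_octads_iff' (o : Finset GolayPt) :
    o ∈ octads ↔ isCode (mask o) = true ∧ Nat.beq (pcF (mask o)) 8 = true := by
  rw [mem_octads_iff, card_eq_pcF, Nat.beq_eq]

theorem mem_dodecads_iff' (o : Finset GolayPt) :
    o ∈ dodecads ↔ isCode (mask o) = true ∧ Nat.beq (pcF (mask o)) 12 = true := by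
  rw [mem_dodecads_iff, card_eq_pcF, Nat.beq_eq]

/-- all tables of a list lie in `stabK ms` -/
theorem gens_spec {ms : List ℕ} {gens : List (List ℕ)} (h : gens.all (inK ms) = true) :
    ∀ L ∈ gens, validTbl L = true ∧ permOf L ∈ stabK ms := by
  intro L hL
  exact inK_spec (List.all_eq_true.1 h L hL)

end Cfsg.Agent.Lib.Helper10
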