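/-
Octads: intersection numbers.
-/
import Cfsg.Agent.Lib.Helper10.M24Six

set_option autoImplicit false

namespace Cfsg.Agent.Lib.Helper10

open Cfsg Cfsg.Agent.Lib.Helper28
open scoped Pointwise

def isOct (m : ℕ) : Bool := Nat.beq (pcF m) 8

def octCls (m : ℕ) : ℕ := pcF (Nat.land 8536111 m)

def isOctc (c m : ℕ) : Bool := and (isOct m) (Nat.beq (octCls m) c)

/-- M24 is transitive on octads -/
theorem octads_trans {s t : Finset GolayPt} (hs : s ∈ octads) (ht : t ∈ octads) : ∃ g ∈ M24, g • s = t := by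
  obtain ⟨a, ha, has⟩ := octad_std0 hs
  obtain ⟨b, hb, hbt⟩ := octad_std0 ht
  exact ⟨b⁻¹ * a, M24.mul_mem (M24.inv_mem hb) ha, by rw [mul_smul, has, ← hbt, inv_smul_smul]⟩

theorem isOctc_iff (c : ℕ) (s : Finset GolayPt) :
    (isCode (mask s) = true ∧ isOctc c (mask s) = true) ↔ (s ∈ octads ∧ (stdOctad ∩ s).card = c) := by
  rw [isOctc, Bool.and_eq_true, ← and_assoc, mem_octads_iff', card_inter_eq_pcF, mask_stdOctad, Nat.beq_eq]
  rfl

theorem stdOct_count (c : ℕ) : {s : Finset GolayPt | s ∈ octads ∧ (stdOctad ∩ s).card = c}.ncard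
    = countAcc (fun j => isOctc c (encF j)) 4096 0 := by
  rw [← ncard_code_eq]
  congr 1
  ext s
  exact (isOctc_iff c s).symm

theorem oct_count {d : Finset GolayPt} (hd : d ∈ octads) (c : ℕ) :
    {s : Finset GolayPt | s ∈ octads ∧ (d ∩ s).card = c}.ncard = countAcc (fun j => isOctc c (encF j)) 4096 0 := by
  obtain ⟨a, ha, had⟩ := octad_std0 hd
  rw [← stdOct_count]
  apply ncard_transport a
  intro s
  simp only [Set.mem_ofPred_eq]
  rw [smul_mem_octads_iff ha, ← had, card_smul_inter]

theorem oct_count0 : countAcc (fun j => isOctc 0 (encF j)) 4096 0 = 30 := by decide +kernel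
theorem oct_count2 : countAcc (fun j => isOctc 2 (encF j)) 4096 0 = 448 := by decide +kernel
theorem oct_count4 : countAcc (fun j => isOctc 4 (encF j)) 4096 0 = 280 := by decide +kernel
theorem oct_count8 : countAcc (fun j => isOctc 8 (encF j)) 4096 0 = 1 := by decide +kernel

/-- possible intersection sizes of two octads -/
theorem oct_inter_card {d s : Finset GolayPt} (hd : d ∈ octads) (hs : s ∈ octads) :
    (d ∩ s).card = 0 ∨ (d ∩ s).card = 2 ∨ (d ∩ s).card = 4 ∨ (d ∩ s).card = 8 := by
  obtain ⟨a, ha, had⟩ := octad_std0 hd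
  have hs' := smul_mem_octads ha hs
  rw [mem_octads_iff'] at hs'
  rw [← card_smul_inter a, had, card_inter_eq_pcF, mask_stdOctad]
  have := forall_code_of_check (f := fun m => cond (isOct m)
    (strict (octCls m) fun c => or (Nat.beq c 0) (or (Nat.beq c 2) (or (Nat.beq c 4) (Nat.beq c 8)))) true)
    (by decide +kernel) (mask_lt (a • s)) hs'.1
  have h2 : isOct (mask (a • s)) = true := hs'.2
  simp only [h2, cond_true, strict_eq, Bool.or_eq_true, Nat.beq_eq] at this
  exact this

end Cfsg.Agent.Lib.Helper10
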