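/-
Independent families in the standard sets (generated).
-/
import Cfsg.Agent.Lib.Helper10.LeechSpan
set_option autoImplicit false
open Cfsg Cfsg.Agent.Lib.Helper28
namespace Cfsg.Agent.Lib.Helper10

def spanFX : List ℕ := [728931481559469994818216774992447029, 728931481559469994818216774992447153, 686053159114795289240674611757597332, 769129990632842008238299172710138450, 688730518888937754283020644656890450, 686055696969249437980943819748164178, 688649310019942857720841882330219090, 769213573870756698532229059990536786, 688651842845338791236504855551427154, 686053159192244463051075236135453266, 771726136508784820559079397323719250, 769132444152555425032026354025513554, 686134288755703379214553736806941266, 771726057357991197641073530942014034, 686053238343033363746709160340243026, 686055776120038338536829816062624338, 688730437259850997162189647916843602, 769129908853848302055416756705968722, 686136824054410354761325799381942866,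 686055773646576185390091122787238482, 686136903282650785692478336926237266, 769129988081932899508824214012969554, 686055696894369236079036336850879058, 771807186919110111962692513732051538]

def spanFA : List (List ℤ) := [
  [3, (-3), 3, 0, 0, 0, 0, 0, 0, 0, 0, 0, 0, 0, 0, 0, 0, 0, 0, 0, 0, 0, 0, 0],
  [(-3), 3, 3, 0, 0, 0, 0, 0, 0, 0, 0, 0, 0, 0, 0, 0, 0, 0, 0, 0, 0, 0, 0, 0],
  [12, 12, 3, 1, 20, (-31), 25, 12, (-15), 21, (-15), 13, (-20), 17, (-7), (-15), (-32), 8, (-4), 16, 24, (-36), (-12), (-12)],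
  [0, 0, (-1), (-1), (-4), 15, (-15), (-10), 5, (-3), 3, (-3), 8, (-7), (-3), 5, 6, (-6), 0, 0, (-12), 12, 0, 12],
  [0, 0, (-1), 3, (-8), 11, (-17), (-10), 5, (-9), 15, (-5), 12, (-5), (-1), (-1), 10, (-10), 8, (-8), (-12), 12, 12, 0],
  [0, 0, (-1), (-3), (-8), 5, 1, 2, 5, (-9), (-3), (-5), 0, (-5), 5, 5, 10, 2, (-4), (-8), 0, 12, 0, 0],
  [0, 0, (-1), (-1), (-4), (-3), 3, 2, (-1), (-3), (-3), (-3), (-4), (-1), 3, 5, 6, 6, 0, 0, 0, 0, 0, 0],
  [0, 0, (-1), (-3), (-2), (-1), 1, 2, (-1), (-3), (-3), 1, 0, 1, 5, 5, 4, 2, (-4), (-2), 0, 0, 0, 0],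
  [0, 0, (-1), (-1), (-4), 3, (-3), 2, 5, (-3), 3, (-3), 2, (-7), 3, 5, 6, 0, 0, (-6), (-6), 6, 0, 0],
  [0, 0, (-1), (-1), (-4), 3, 3, 2, (-1), (-3), 3, (-3), 2, (-1), 3, (-1), 0, 0, 0, 0, 0, 0, 0, 0],
  [0, 0, (-1), 1, 0, 1, (-1), (-4), (-1), 3, 3, (-1), 4, 3, (-5), (-1), (-4), (-2), 4, 2, 0, 0, 0, 0],
  [0, 0, (-1), 1, 0, 7, (-7), (-4), 5, (-3), 3, (-1), 4, (-3), 1, (-1), 2, (-2), 4, (-4), (-6), 6, 0, 0],
  [0, 0, (-1), (-1), 2, (-3), 3, 2, (-1), 3, (-3), 3, (-4), (-1), 3, (-1), 0, 0, 0, 0, 0, 0, 0, 0],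
  [0, 0, (-1), 3, (-2), 5, (-5), (-4), 5, (-3), 3, 1, 6, (-5), (-1), (-1), 4, (-4), 2, (-2), (-6), 6, 0, 0],
  [0, 0, (-1), (-1), 2, 3, (-3), (-4), (-1), 3, 3, 3, 2, (-1), (-3), (-1), 0, 0, 0, 0, 0, 0, 0, 0],
  [0, 0, (-1), 1, 0, (-5), 5, 2, (-1), 3, (-3), (-1), (-2), 3, 1, (-1), (-4), 4, (-2), 2, 6, (-6), 0, 0],
  [0, 0, (-1), (-3), 4, (-1), 1, 2, (-1), 3, (-3), 1, 0, 1, (-1), (-1), (-2), 2, (-4), 4, 0, 0, 0, 0],
  [0, 0, (-1), 1, 0, 1, (-1), 2, (-1), 3, (-3), (-1), (-2), 3, 1, (-1), 2, (-2), (-2), 2, 0, 0, 0, 0],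
  [0, 0, (-1), 1, 0, 1, 5, 2, (-1), (-3), (-3), (-1), (-2), (-3), 1, 5, 2, 4, (-2), (-4), 0, 0, 0, 0],
  [0, 0, (-1), 3, 4, (-1), (-5), (-4), (-1), 3, 3, 1, 0, 1, (-1), (-1), (-2), (-4), 2, 4, 0, 0, 0, 0],
  [0, 0, (-1), (-1), 2, (-3), 3, 2, (-1), 3, (-3), 3, (-4), 5, (-3), (-1), (-6), 0, 0, 6, 6, (-6), 0, 0],
  [0, 0, (-1), 1, 0, 1, (-1), 2, (-1), (-3), 3, (-1), 4, (-3), 1, (-1), 2, (-2), 4, (-4), 0, 0, 0, 0],
  [0, 0, (-1), (-3), 4, (-7), 7, 2, (-1), 3, (-3), 1, (-6), 7, (-1), (-1), (-2), 2, (-4), 4, 6, (-6), 0, 0],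
  [0, 0, (-1), 3, (-2), (-1), 1, 2, (-1), (-3), 3, 1, 0, 1, (-1), (-1), (-2), 2, 2, (-2), 0, 0, 0, 0]]

theorem spanF_chk : spanChk spanFX spanFA 24 = true := by decide +kernel

def spanHX : List ℕ := [686053159114795289240674611757597332, 728931481559469994818216774992446897, 686053159114795289240674611757597076, 771807186998899287610448918925034000, 769213573793463367431952751959491088, 688651842922636849319449253235933712, 688733051791631745737653564975104528, 769132523380793494926374746741817872, 771726136586229272002992754009850384, 686134367983790337993136319303795216, 686136905760946428506205204045644304, 771728674363234246932724998180717072, 769129990555397561410575434078765584, 688649310097392026915052888653316624, 686055776197487512342722442766598672, 769211120273598834910773879436231184, 688649389248180927615049674997121552, 688730439660850800116264818075779600, 686134288833001437292998932910588432,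 771807268623155063675189084830581264, 686053240898629421212613606476628496, 769213576344221360433975882144039440, 769132523460504682207687969560085008, 688730518963891231119889363502711312]

def spanHA : List (List ℤ) := [
  [2, 0, 2, 0, 0, 0, 0, 0, 0, 0, 0, 0, 0, 0, 0, 0, 0, 0, 0, 0, 0, 0, 0, 0],
  [2, 0, (-2), 0, 0, 0, 0, 0, 0, 0, 0, 0, 0, 0, 0, 0, 0, 0, 0, 0, 0, 0, 0, 0],
  [4, 16, (-8), 23, (-27), 19, 5, 1, (-5), (-5), 12, (-16), 22, (-10), 14, 10, (-22), 6, (-16), 0, (-8), (-8), (-8), (-8)],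
  [0, 0, 0, (-7), 11, (-7), (-1), 3, 1, (-3), (-4), 4, (-6), 2, (-6), (-2), 6, (-2), 4, (-4), 4, 0, 0, 8],
  [0, 0, 0, (-3), 7, (-7), (-1), (-5), (-7), 9, (-8), 4, (-6), 10, 2, (-2), 6, (-6), 0, 4, (-4), 0, 8, 0],
  [0, 0, 0, (-3), 7, (-11), 3, (-5), 5, 1, (-4), 4, (-2), (-2), (-2), (-10), 10, (-2), 4, (-4), 4, 8, 0, 0],
  [0, 0, 0, (-7), (-1), 5, (-5), 3, 5, (-3), 4, 0, (-6), (-2), (-6), 2, (-2), 2, 4, 4, 4, 0, 0, 0],
  [0, 0, 0, (-3), (-1), 1, (-1), 3, 1, (-3), 0, 0, (-2), (-2), (-2), 2, 2, 2, 4, 0, 0, 0, 0, 0],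
  [0, 0, 0, (-3), 3, (-3), (-1), (-1), 1, 1, 0, 4, (-2), 2, (-2), (-2), 2, (-2), 4, 0, 0, 0, 0, 0],
  [0, 0, 0, (-3), (-1), 1, (-1), 3, 1, 1, 0, 0, (-2), 2, (-2), 2, (-2), 2, 0, 0, 0, 0, 0, 0],
  [0, 0, 0, (-3), 3, 1, (-1), (-1), 1, 1, 0, 0, (-2), 2, (-2), 2, 2, (-2), 0, 0, 0, 0, 0, 0],
  [0, 0, 0, 1, 3, (-3), (-1), (-1), (-3), 5, (-4), 4, (-2), 2, 2, (-2), 2, (-2), 0, 0, 0, 0, 0, 0],
  [0, 0, 0, 1, (-1), 1, (-1), (-1), 1, 1, 0, 0, 2, (-2), 2, (-2), (-2), 2, 0, 0, 0, 0, 0, 0],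
  [0, 0, 0, 1, (-5), 5, (-1), 3, 1, (-3), 4, (-4), 2, (-2), (-2), 2, (-2), 2, 0, 0, 0, 0, 0, 0],
  [0, 0, 0, 1, 3, (-3), 3, (-1), (-3), 1, (-4), 0, 2, 2, 2, (-2), 2, (-2), 0, 0, 0, 0, 0, 0],
  [0, 0, 0, 1, 3, (-3), (-1), (-1), 1, 1, 0, 0, (-2), 2, 2, (-2), 2, (-2), 0, 0, 0, 0, 0, 0],
  [0, 0, 0, 1, 3, (-3), 3, (-1), 1, (-3), 0, 0, 2, (-2), (-2), (-2), 2, 2, 0, (-4), 4, 0, 0, 0],
  [0, 0, 0, 1, (-1), 1, (-1), (-1), 1, 1, 0, 0, (-2), 2, 2, 2, (-2), (-2), 0, 0, 0, 0, 0, 0],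
  [0, 0, 0, 1, (-1), 1, (-1), (-1), (-3), 1, 0, 0, 2, 2, 2, 2, (-2), 2, (-4), 0, 0, 0, 0, 0],
  [0, 0, 0, 1, (-1), (-3), 3, (-1), 1, 1, 0, 0, 2, (-2), 2, (-2), 2, (-2), 0, 0, 0, 0, 0, 0],
  [0, 0, 0, (-3), (-1), 5, (-1), 3, 1, (-3), 4, 0, (-2), (-2), (-2), 2, (-2), 2, 0, 0, 0, 0, 0, 0],
  [0, 0, 0, 1, (-1), 1, (-1), (-1), (-3), 5, 0, 0, (-2), 2, 2, 2, (-2), (-2), 0, 4, (-4), 0, 0, 0],
  [0, 0, 0, 1, (-1), 1, 3, (-1), 1, (-3), 0, 0, 2, (-2), (-2), (-2), 2, 2, 0, 0, 0, 0, 0, 0],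
  [0, 0, 0, 1, (-1), 1, (-1), 3, 1, (-3), 0, 0, 2, (-2), (-2), 2, (-2), 2, 0, 0, 0, 0, 0, 0]]

theorem spanH_chk : spanChk spanHX spanHA 16 = true := by decide +kernel

def spanCX : List ℕ := [728931481559469994818216774992447029, 686053159114795289240674611757597332, 852206658587909773353650494292640276, 691245455973330116869205108086817300, 686215418391624502604066189767885332, 686058229717196202158280598570418708, 686053317571120317769349798845497876, 686053164066555446382195711354094100, 686053159269537794151347146119987732, 686053159119630992519133128456421908, 686053159114946404968126440404435476, 686053159114800011607157481402810900, 686053159114795436814627201434010132, 686053159114795293852360630184985108, 686053159114795289384789799833453076, 686053159114795289245178211384967700, 686053159114795289240815349245952532, 686053159114795289240679009804108308, 686053159114795289240674749196550676, 686053159114795289240674616052564500,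 686053159114795289240674611891814932, 686053159114795289240674611761791508, 686053159114795289240674611757728276, 686053159114795289240674611757601300]

def spanCA : List (List ℤ) := [
  [(-4), 1, 1, 1, 1, 1, 1, 1, 1, 1, 1, 1, 1, 1, 1, 1, 1, 1, 1, 1, 1, 1, 1, 1],
  [4, 17, (-1), (-1), (-1), (-1), (-1), (-1), (-1), (-1), (-1), (-1), (-1), (-1), (-1), (-1), (-1), (-1), (-1), (-1), (-1), (-1), (-1), (-1)],
  [4, (-1), (-1), (-1), (-1), (-1), (-1), (-1), (-1), (-1), (-1), (-1), (-1), (-1), (-1), (-1), (-1), (-1), (-1), (-1), (-1), (-1), (-1), 17],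
  [4, (-1), (-1), (-1), (-1), (-1), (-1), (-1), (-1), (-1), (-1), (-1), (-1), (-1), (-1), (-1), (-1), (-1), (-1), (-1), (-1), (-1), 17, (-1)],
  [4, (-1), (-1), (-1), (-1), (-1), (-1), (-1), (-1), (-1), (-1), (-1), (-1), (-1), (-1), (-1), (-1), (-1), (-1), (-1), (-1), 17, (-1), (-1)],
  [4, (-1), (-1), (-1), (-1), (-1), (-1), (-1), (-1), (-1), (-1), (-1), (-1), (-1), (-1), (-1), (-1), (-1), (-1), (-1), 17, (-1), (-1), (-1)],
  [4, (-1), (-1), (-1), (-1), (-1), (-1), (-1), (-1), (-1), (-1), (-1), (-1), (-1), (-1), (-1), (-1), (-1), (-1), 17, (-1), (-1), (-1), (-1)],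
  [4, (-1), (-1), (-1), (-1), (-1), (-1), (-1), (-1), (-1), (-1), (-1), (-1), (-1), (-1), (-1), (-1), (-1), 17, (-1), (-1), (-1), (-1), (-1)],
  [4, (-1), (-1), (-1), (-1), (-1), (-1), (-1), (-1), (-1), (-1), (-1), (-1), (-1), (-1), (-1), (-1), 17, (-1), (-1), (-1), (-1), (-1), (-1)],
  [4, (-1), (-1), (-1), (-1), (-1), (-1), (-1), (-1), (-1), (-1), (-1), (-1), (-1), (-1), (-1), 17, (-1), (-1), (-1), (-1), (-1), (-1), (-1)],
  [4, (-1), (-1), (-1), (-1), (-1), (-1), (-1), (-1), (-1), (-1), (-1), (-1), (-1), (-1), 17, (-1), (-1), (-1), (-1), (-1), (-1), (-1), (-1)],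
  [4, (-1), (-1), (-1), (-1), (-1), (-1), (-1), (-1), (-1), (-1), (-1), (-1), (-1), 17, (-1), (-1), (-1), (-1), (-1), (-1), (-1), (-1), (-1)],
  [4, (-1), (-1), (-1), (-1), (-1), (-1), (-1), (-1), (-1), (-1), (-1), (-1), 17, (-1), (-1), (-1), (-1), (-1), (-1), (-1), (-1), (-1), (-1)],
  [4, (-1), (-1), (-1), (-1), (-1), (-1), (-1), (-1), (-1), (-1), (-1), 17, (-1), (-1), (-1), (-1), (-1), (-1), (-1), (-1), (-1), (-1), (-1)],
  [4, (-1), (-1), (-1), (-1), (-1), (-1), (-1), (-1), (-1), (-1), 17, (-1), (-1), (-1), (-1), (-1), (-1), (-1), (-1), (-1), (-1), (-1), (-1)],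
  [4, (-1), (-1), (-1), (-1), (-1), (-1), (-1), (-1), (-1), 17, (-1), (-1), (-1), (-1), (-1), (-1), (-1), (-1), (-1), (-1), (-1), (-1), (-1)],
  [4, (-1), (-1), (-1), (-1), (-1), (-1), (-1), (-1), 17, (-1), (-1), (-1), (-1), (-1), (-1), (-1), (-1), (-1), (-1), (-1), (-1), (-1), (-1)],
  [4, (-1), (-1), (-1), (-1), (-1), (-1), (-1), 17, (-1), (-1), (-1), (-1), (-1), (-1), (-1), (-1), (-1), (-1), (-1), (-1), (-1), (-1), (-1)],
  [4, (-1), (-1), (-1), (-1), (-1), (-1), 17, (-1), (-1), (-1), (-1), (-1), (-1), (-1), (-1), (-1), (-1), (-1), (-1), (-1), (-1), (-1), (-1)],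
  [4, (-1), (-1), (-1), (-1), (-1), 17, (-1), (-1), (-1), (-1), (-1), (-1), (-1), (-1), (-1), (-1), (-1), (-1), (-1), (-1), (-1), (-1), (-1)],
  [4, (-1), (-1), (-1), (-1), 17, (-1), (-1), (-1), (-1), (-1), (-1), (-1), (-1), (-1), (-1), (-1), (-1), (-1), (-1), (-1), (-1), (-1), (-1)],
  [4, (-1), (-1), (-1), 17, (-1), (-1), (-1), (-1), (-1), (-1), (-1), (-1), (-1), (-1), (-1), (-1), (-1), (-1), (-1), (-1), (-1), (-1), (-1)],
  [4, (-1), (-1), 17, (-1), (-1), (-1), (-1), (-1), (-1), (-1), (-1), (-1), (-1), (-1), (-1), (-1), (-1), (-1), (-1), (-1), (-1), (-1), (-1)],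
  [4, (-1), 17, (-1), (-1), (-1), (-1), (-1), (-1), (-1), (-1), (-1), (-1), (-1), (-1), (-1), (-1), (-1), (-1), (-1), (-1), (-1), (-1), (-1)]]

theorem spanC_chk : spanChk spanCX spanCA 72 = true := by decide +kernel

def spanEX : List ℕ := [643174836670120583663132448522747371, 852206658587909773353650494292640268, 691245455973330116869205108086817292, 686215418391624502604066189767885324, 686058229717196202158280598570418700, 686053317571120317769349798845497868, 686053164066555446382195711354094092, 686053159269537794151347146119987724, 686053159119630992519133128456421900, 686053159114946404968126440404435468, 686053159114800011607157481402810892, 686053159114795436814627201434010124, 686053159114795293852360630184985100, 686053159114795289384789799833453068, 686053159114795289245178211384967692, 686053159114795289240815349245952524, 686053159114795289240679009804108300, 686053159114795289240674749196550668,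 686053159114795289240674616052564492, 686053159114795289240674611891814924, 686053159114795289240674611761791500, 686053159114795289240674611757728268, 686053159114795289240674611757601292, 686053159114795289240674611757597324]

def spanEA : List (List ℤ) := [
  [(-4), (-1), (-1), (-1), (-1), (-1), (-1), (-1), (-1), (-1), (-1), (-1), (-1), (-1), (-1), (-1), (-1), (-1), (-1), (-1), (-1), (-1), (-1), (-1)],
  [(-4), (-1), (-1), (-1), (-1), (-1), (-1), (-1), (-1), (-1), (-1), (-1), (-1), (-1), (-1), (-1), (-1), (-1), (-1), (-1), (-1), (-1), (-1), 27],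
  [(-4), (-1), (-1), (-1), (-1), (-1), (-1), (-1), (-1), (-1), (-1), (-1), (-1), (-1), (-1), (-1), (-1), (-1), (-1), (-1), (-1), (-1), 27, (-1)],
  [(-4), (-1), (-1), (-1), (-1), (-1), (-1), (-1), (-1), (-1), (-1), (-1), (-1), (-1), (-1), (-1), (-1), (-1), (-1), (-1), (-1), 27, (-1), (-1)],
  [(-4), (-1), (-1), (-1), (-1), (-1), (-1), (-1), (-1), (-1), (-1), (-1), (-1), (-1), (-1), (-1), (-1), (-1), (-1), (-1), 27, (-1), (-1), (-1)],
  [(-4), (-1), (-1), (-1), (-1), (-1), (-1), (-1), (-1), (-1), (-1), (-1), (-1), (-1), (-1), (-1), (-1), (-1), (-1), 27, (-1), (-1), (-1), (-1)],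
  [(-4), (-1), (-1), (-1), (-1), (-1), (-1), (-1), (-1), (-1), (-1), (-1), (-1), (-1), (-1), (-1), (-1), (-1), 27, (-1), (-1), (-1), (-1), (-1)],
  [(-4), (-1), (-1), (-1), (-1), (-1), (-1), (-1), (-1), (-1), (-1), (-1), (-1), (-1), (-1), (-1), (-1), 27, (-1), (-1), (-1), (-1), (-1), (-1)],
  [(-4), (-1), (-1), (-1), (-1), (-1), (-1), (-1), (-1), (-1), (-1), (-1), (-1), (-1), (-1), (-1), 27, (-1), (-1), (-1), (-1), (-1), (-1), (-1)],
  [(-4), (-1), (-1), (-1), (-1), (-1), (-1), (-1), (-1), (-1), (-1), (-1), (-1), (-1), (-1), 27, (-1), (-1), (-1), (-1), (-1), (-1), (-1), (-1)],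
  [(-4), (-1), (-1), (-1), (-1), (-1), (-1), (-1), (-1), (-1), (-1), (-1), (-1), (-1), 27, (-1), (-1), (-1), (-1), (-1), (-1), (-1), (-1), (-1)],
  [(-4), (-1), (-1), (-1), (-1), (-1), (-1), (-1), (-1), (-1), (-1), (-1), (-1), 27, (-1), (-1), (-1), (-1), (-1), (-1), (-1), (-1), (-1), (-1)],
  [(-4), (-1), (-1), (-1), (-1), (-1), (-1), (-1), (-1), (-1), (-1), (-1), 27, (-1), (-1), (-1), (-1), (-1), (-1), (-1), (-1), (-1), (-1), (-1)],
  [(-4), (-1), (-1), (-1), (-1), (-1), (-1), (-1), (-1), (-1), (-1), 27, (-1), (-1), (-1), (-1), (-1), (-1), (-1), (-1), (-1), (-1), (-1), (-1)],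
  [(-4), (-1), (-1), (-1), (-1), (-1), (-1), (-1), (-1), (-1), 27, (-1), (-1), (-1), (-1), (-1), (-1), (-1), (-1), (-1), (-1), (-1), (-1), (-1)],
  [(-4), (-1), (-1), (-1), (-1), (-1), (-1), (-1), (-1), 27, (-1), (-1), (-1), (-1), (-1), (-1), (-1), (-1), (-1), (-1), (-1), (-1), (-1), (-1)],
  [(-4), (-1), (-1), (-1), (-1), (-1), (-1), (-1), 27, (-1), (-1), (-1), (-1), (-1), (-1), (-1), (-1), (-1), (-1), (-1), (-1), (-1), (-1), (-1)],
  [(-4), (-1), (-1), (-1), (-1), (-1), (-1), 27, (-1), (-1), (-1), (-1), (-1), (-1), (-1), (-1), (-1), (-1), (-1), (-1), (-1), (-1), (-1), (-1)],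
  [(-4), (-1), (-1), (-1), (-1), (-1), 27, (-1), (-1), (-1), (-1), (-1), (-1), (-1), (-1), (-1), (-1), (-1), (-1), (-1), (-1), (-1), (-1), (-1)],
  [(-4), (-1), (-1), (-1), (-1), 27, (-1), (-1), (-1), (-1), (-1), (-1), (-1), (-1), (-1), (-1), (-1), (-1), (-1), (-1), (-1), (-1), (-1), (-1)],
  [(-4), (-1), (-1), (-1), 27, (-1), (-1), (-1), (-1), (-1), (-1), (-1), (-1), (-1), (-1), (-1), (-1), (-1), (-1), (-1), (-1), (-1), (-1), (-1)],
  [(-4), (-1), (-1), 27, (-1), (-1), (-1), (-1), (-1), (-1), (-1), (-1), (-1), (-1), (-1), (-1), (-1), (-1), (-1), (-1), (-1), (-1), (-1), (-1)],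
  [(-4), (-1), 27, (-1), (-1), (-1), (-1), (-1), (-1), (-1), (-1), (-1), (-1), (-1), (-1), (-1), (-1), (-1), (-1), (-1), (-1), (-1), (-1), (-1)],
  [(-4), 27, (-1), (-1), (-1), (-1), (-1), (-1), (-1), (-1), (-1), (-1), (-1), (-1), (-1), (-1), (-1), (-1), (-1), (-1), (-1), (-1), (-1), (-1)]]

theorem spanE_chk : spanChk spanEX spanEA 112 = true := by decide +kernel

def spanKX : List ℕ := [686053159114795289240674611757597332, 686053159114795362955591113465346640, 686053159114795215525753711864789584, 686053159114795215381642921835444816, 686053159114795363099710699587713616, 769129906375396894862676086753802832, 602976411854042567891221303815256656, 602976406902433526477152032865598032, 769129911327308167731649014997138000, 686055694336206641604841710887058000, 686050623888548233597908258436627024, 686050623738641431965694240773061200, 686055694495784849793972761948273232, 688568098677483220925665042548341328,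 683538061095777606660526124229409360, 683375960275273421825809733307021904, 688730516410637462817731807646530128, 683375801818953115663617415864334928, 686055615187833231432888209591712336, 686050544585432318519785822406261328, 686134288753134338058574048908491344, 688649305065764770539107042493676112, 688649307466691450599603521804843600, 686055691940113305945475551754404432]

def spanKA : List (List ℤ) := [
  [2, 3, 3, 3, 3, 3, 1, 7, 5, 0, (-4), (-2), (-2), 7, 1, (-1), (-11), (-8), (-6), (-6), 8, 0, (-4), (-4)],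
  [0, (-3), (-3), (-3), (-3), (-3), (-1), (-7), (-5), 0, 4, 2, 2, (-7), (-1), 1, 11, 8, 6, 6, (-8), 0, 4, 4],
  [0, (-1), (-1), (-1), (-1), (-1), 1, (-3), (-1), 0, 2, 2, 0, (-3), (-1), (-1), 3, 2, 2, 2, (-4), 0, 0, 4],
  [0, (-1), (-1), (-1), (-1), (-1), (-1), (-3), (-3), 0, 2, 0, 2, (-3), 1, 1, 3, 2, 2, 2, (-4), 0, 4, 0],
  [0, (-1), (-1), (-1), (-1), (-1), (-1), (-1), (-1), 0, 0, 0, 0, (-1), (-1), 1, 3, 2, 2, 2, 0, 0, 0, 0],
  [0, (-1), (-1), (-1), (-1), 0, 0, 0, 0, 0, 0, 0, 0, 0, 0, 0, 2, 2, 0, 0, 0, 0, 0, 0],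
  [0, 0, 0, 0, 0, (-1), (-1), (-1), (-1), 0, 0, 0, 0, 0, 0, 0, 2, 2, 0, 0, 0, 0, 0, 0],
  [0, 0, 0, 0, 0, 0, 0, (-2), (-2), 1, 1, 1, 1, (-2), 0, 0, 2, 0, 2, 2, (-4), 0, 0, 0],
  [0, (-1), (-1), 1, 1, 0, 0, 0, 0, 0, 0, 0, 0, 0, 0, 0, 0, 0, 0, 0, 0, 0, 0, 0],
  [0, 0, 0, 0, 0, 0, 0, 0, 0, (-1), (-1), (-1), (-1), 0, 0, 0, 2, 2, 0, 0, 0, 0, 0, 0],
  [0, 0, 0, 0, 0, 0, 0, 0, 0, 1, (-1), (-1), 1, 0, 0, 0, 0, 0, (-2), 2, 0, 0, 0, 0],
  [0, (-1), 1, (-1), 1, 0, 0, 0, 0, 0, 0, 0, 0, 0, 0, 0, 0, 0, 0, 0, 0, 0, 0, 0],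
  [0, 0, 0, 0, 0, 0, (-2), 0, (-2), 1, 1, (-1), (-1), 0, (-2), 0, 4, 2, 2, 2, 0, (-4), 0, 0],
  [0, 1, (-1), (-1), 1, 0, 0, 0, 0, 0, 0, 0, 0, 0, 0, 0, 0, 0, 0, 0, 0, 0, 0, 0],
  [0, 0, 0, 0, 0, 0, 0, 0, 0, 0, 0, 0, 0, (-1), (-1), (-1), 1, 2, 0, 0, 0, 0, 0, 0],
  [0, 0, 0, 0, 0, (-1), (-1), 1, 1, 0, 0, 0, 0, 0, 0, 0, 0, 0, 0, 0, 0, 0, 0, 0],
  [0, 0, 0, 0, 0, 0, 0, 0, 0, (-1), (-1), 1, 1, 0, 0, 0, 0, 0, 0, 0, 0, 0, 0, 0],
  [0, 0, 0, 0, 0, 0, 0, 0, 0, (-1), 1, (-1), 1, 0, 0, 0, 0, 0, 0, 0, 0, 0, 0, 0],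
  [0, 0, 0, 0, 0, (-1), 1, (-1), 1, 0, 0, 0, 0, 0, 0, 0, 0, 0, 0, 0, 0, 0, 0, 0],
  [0, 0, 0, 0, 0, 0, 0, 0, 0, 0, 0, 0, 0, (-1), (-1), 1, 1, 0, 0, 0, 0, 0, 0, 0],
  [0, 0, 0, 0, 0, 0, 0, 0, 0, 1, (-1), (-1), 1, 0, 0, 0, 0, 0, 0, 0, 0, 0, 0, 0],
  [0, 0, 0, 0, 0, 0, 0, 0, 0, 0, 0, 0, 0, (-1), 1, (-1), 1, 0, 0, 0, 0, 0, 0, 0],
  [0, 0, 0, 0, 0, 0, 0, 0, 0, 0, 0, 0, 0, 1, (-1), (-1), 1, 0, 0, 0, 0, 0, 0, 0],
  [0, 0, 0, 0, 0, 1, (-1), (-1), 1, 0, 0, 0, 0, 0, 0, 0, 0, 0, 0, 0, 0, 0, 0, 0]]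

theorem spanK_chk : spanChk spanKX spanKA 8 = true := by decide +kernel

end Cfsg.Agent.Lib.Helper10
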